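import Cfsg.Agent.LyRec.InP.Data
import Cfsg.Agent.LyRec.RelData
import Cfsg.Agent.LyRec.Alpha.Words

/-! Kernel checks of the word of the exchanging element. -/

set_option autoImplicit false
set_option maxRecDepth 100000
set_option Elab.async false

namespace Cfsg.Agent.LyRec.InP

open Cfsg.Agent.LyMat Cfsg.Agent.CosetCert Cfsg.Agent.LyLocal

theorem x_word : sameX [28] xW = true := by decide +kernel

end Cfsg.Agent.LyRec.InP
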