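import Cfsg.Agent.LyRec.InP.Data
import Cfsg.Agent.LyRec.RelData
import Cfsg.Agent.LyRec.Alpha.Words

/-! Kernel checks of the action on the common centraliser. -/

set_option autoImplicit false
set_option maxRecDepth 100000
set_option Elab.async false

namespace Cfsg.Agent.LyRec.InP

open Cfsg.Agent.LyMat Cfsg.Agent.CosetCert Cfsg.Agent.LyLocal

theorem x_sq : sameX [28, 28] [] = true := by decide +kernel

theorem x_conj0 : sameX ([28] ++ ((Alpha.gen 0).map fun i => 12 + (Alpha.odL i).val) ++ [28])
    ((Alpha.img 2 0).map fun i => 12 + (Alpha.odL i).val) = true := by decide +kernel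

theorem x_conj1 : sameX ([28] ++ ((Alpha.gen 1).map fun i => 12 + (Alpha.odL i).val) ++ [28])
    ((Alpha.img 2 1).map fun i => 12 + (Alpha.odL i).val) = true := by decide +kernel

theorem x_conj2 : sameX ([28] ++ ((Alpha.gen 2).map fun i => 12 + (Alpha.odL i).val) ++ [28])
    ((Alpha.img 2 2).map fun i => 12 + (Alpha.odL i).val) = true := by decide +kernel

theorem gen_word0 : sameX [0] (genWords.getD 0 []) = true := by decide +kernel

theorem gen_word1 : sameX [1] (genWords.getD 1 []) = true := by decide +kernel

theorem gen_word2 : sameX [2] (genWords.getD 2 []) = true := by decide +kernel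

theorem gen_word3 : sameX [3] (genWords.getD 3 []) = true := by decide +kernel

theorem gen_word4 : sameX [4] (genWords.getD 4 []) = true := by decide +kernel

end Cfsg.Agent.LyRec.InP
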