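import Cfsg.Agent.LyRec.InP.Data
import Cfsg.Agent.LyRec.RelData
import Cfsg.Agent.LyRec.Alpha.Words

/-! Kernel checks of the triangle relators. -/

set_option autoImplicit false
set_option maxRecDepth 100000
set_option Elab.async false

namespace Cfsg.Agent.LyRec.InP

open Cfsg.Agent.LyMat Cfsg.Agent.CosetCert Cfsg.Agent.LyLocal

theorem x_rel0 : sameX ([28] ++ ((relG 2 0).map fun i => 12 + (Alpha.odL i).val) ++ [28] ++ ((relH 2 0).map fun i => 12 + (Alpha.odL i).val) ++ [28])
    ((relY 2 0).map fun i => 12 + (Alpha.odL i).val) = true := by decide +kernel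

theorem x_rel1 : sameX ([28] ++ ((relG 2 1).map fun i => 12 + (Alpha.odL i).val) ++ [28] ++ ((relH 2 1).map fun i => 12 + (Alpha.odL i).val) ++ [28])
    ((relY 2 1).map fun i => 12 + (Alpha.odL i).val) = true := by decide +kernel

end Cfsg.Agent.LyRec.InP
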